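import Cfsg.Agent.SylT.EmbLin
import Cfsg.Agent.Known.PSLAutCent
import Cfsg.Agent.S0820

/-!
# The parabolic subgroups of `PSL₃(4)`
-/

set_option autoImplicit false

namespace Cfsg.Lib.L34

open Subgroup Cfsg.Lib.Trans Cfsg.Lib.Gold Cfsg.Lib.Gomi Matrix
open scoped commutatorElement

universe u

variable {G : Type u} [Group G] [Finite G] {A B T F₁ F₂ V : Subgroup G}
  {F : Type*} [Field F] [Fintype F] {u : F → F → F → G}

theorem card_pgl3_four (hF : Fintype.card F = 4) : Nat.card (PGL3 F) = 60480 := by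
  have := Known.card_PGL_mul (ι := Fin 3) (F := F)
  rw [Matrix.card_GL_field, Nat.card_eq_fintype_card (α := F), hF, Fin.prod_univ_three] at this
  change Nat.card (PGL3 F) * 3 = 181440 at this
  omega

omit [Finite G] in
/-- In `PSL₃(4)` the centraliser of the centre of a Sylow 2-subgroup is that subgroup. -/
theorem Cs_le_of_psl (hF : Fintype.card F = 4) (e : G ≃* ProjectiveSpecialLinearGroup (Fin 3) F)
    (hT : IsSylowIn 2 T ⊤) : Cs (T ⊓ Cs T) ≤ T := by
  have := charP_four hF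
  have : Finite G := Finite.of_equiv _ e.toEquiv.symm
  have h2 : IsSylowIn 2 (((Known.uniTri 3 F).map (QuotientGroup.mk' _)).comap e.toMonoidHom) ⊤ := by
    refine ⟨le_top, ((Known.isPGroup_uniTri 2).map _).comap_of_injective _ e.injective, ?_⟩
    rw [relIndex_top_right, index_comap_of_surjective _ e.surjective]
    exact fun h => Known.not_dvd_index_uniTri 2
      (h.trans (index_map_dvd _ (QuotientGroup.mk'_surjective _)))
  obtain ⟨x, -, rfl⟩ := hT.exists_cj_eq h2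
  rw [← cj_Cs, ← cj_inf, ← cj_Cs]
  refine cj_mono x fun g hg => ?_
  have h0 : (0 : Fin 3) ≠ Fin.last 2 := by decide
  let z := SpecialLinearGroup.transvection h0 (1 : F)
  have h3 := mem_Cs.1 hg (e.symm (QuotientGroup.mk z)) ⟨⟨z, Known.transvection_mem_uniTri
    (show (0 : Fin 3) < Fin.last 2 by decide) 1, (e.apply_symm_apply _).symm⟩, by
      rintro y ⟨s, hs, hy⟩
      refine e.injective ?_
      rw [map_mul, map_mul, e.apply_symm_apply, show e y = QuotientGroup.mk s from hy.symm,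
        ← QuotientGroup.mk_mul, ← QuotientGroup.mk_mul,
        mem_centralizer_singleton_iff.1 (Known.uniTri_le_centralizer_corner h0 1 hs)]⟩
  obtain ⟨s, hs⟩ := QuotientGroup.mk_surjective (e g)
  have h4 : Commute s z := Known.commute_of_commute_PSL_mk 2 (Known.transvection_pow_char 2 h0 1) (by
    have := congrArg e h3
    rw [map_mul, map_mul, e.apply_symm_apply, ← hs] at this
    exact this.symm)
  have h6 : (s : Matrix (Fin 3) (Fin 3) F) * transvection 0 2 (1 : F) =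
      transvection 0 2 (1 : F) * (s : Matrix (Fin 3) (Fin 3) F) := congrArg Subtype.val h4.eq
  rw [transvection, mul_add, add_mul, mul_one, one_mul, add_right_inj] at h6
  have h5 := fun i j => congrFun (congrFun h6 i) j
  have e10 : s 1 0 = 0 := by simpa using h5 1 2
  have e20 : s 2 0 = 0 := by simpa using h5 2 2
  have e21 : s 2 1 = 0 := by simpa [eq_comm] using h5 0 1
  have e22 : s 2 2 = s 0 0 := by simpa [eq_comm] using h5 0 2
  have hd : s 0 0 * s 1 1 * s 0 0 = 1 := by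
    have := s.det_coe
    rw [det_fin_three, e10, e20, e21, e22] at this
    linear_combination this
  have h00 : s 0 0 ≠ 0 := fun e => by simp [e] at hd
  have e11 : s 1 1 = s 0 0 := by
    have := FiniteField.pow_card_sub_one_eq_one _ h00
    rw [hF] at this
    linear_combination s 0 0 * hd - s 1 1 * this
  refine ⟨⟨!![1, s 0 1 / s 0 0, s 0 2 / s 0 0; 0, 1, s 1 2 / s 0 0; 0, 0, 1], by
    simp [det_fin_three]⟩, Known.mem_uniTri.2 ⟨fun i j hij => ?_, fun i => ?_⟩, ?_⟩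
  · fin_cases i <;> fin_cases j <;> simp at hij ⊢
  · fin_cases i <;> simp
  · refine (Known.PSL_mk_eq_mk_iff.2 ⟨s 0 0, ?_⟩).trans hs
    ext i j
    fin_cases i <;> fin_cases j <;> simp [e10, e20, e21, e22, e11, mul_div_cancel₀ _ h00]

theorem hs_mov_of_psl (hF : Fintype.card F = 4)
    (e : G ≃* ProjectiveSpecialLinearGroup (Fin 3) F) (h : Hs u) (hS : IsSylowIn 2 h.S ⊤) :
    Mov h.B h.A := not_not.1 fun hm => by
  have := charP_four hF
  have h1 : u 1 0 0 ∈ h.A := h.u_mem_A.2 rfl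
  have h2 : u 0 1 0 ∈ h.B := h.u_mem_B.2 rfl
  obtain ⟨c, hc⟩ := isConj_iff.1 (Agent.S0820.result hF (e (u 1 0 0)) (e (u 0 1 0))
    (by rw [e.orderOf_eq, Tl.orderOf_eq_two (h.ab.sqA _ h1) (by simp [h.eq_one_iff])])
    (by rw [e.orderOf_eq, Tl.orderOf_eq_two (h.ab.sqB _ h2) (by simp [h.eq_one_iff])]))
  have h3 : e.symm c * u 1 0 0 * (e.symm c)⁻¹ = u 0 1 0 := e.injective (by simpa using hc)
  have := (h.ab.sc_top (h.sup_eq ▸ hS) hm).closed _ h.ab.isPGroup le_sup_left _ h1 (e.symm c)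
    (h3 ▸ mem_sup_right h2)
  rw [h3, h.u_mem_A] at this
  exact one_ne_zero this

theorem hs_Ns_le (hF : Fintype.card F = 4) (h : Hs u) (hS : IsSylowIn 2 h.S ⊤)
    (hp : HasPar F h.A h.B) (hC : Cs h.Z ≤ h.S) : Ns h.A ≤ LL h.A h.B := fun n hn => by
  obtain ⟨l, hl, m, hm, rfl⟩ := hp.frattini hn
  refine mul_mem hl ?_
  have hSL : h.S ≤ LL h.A h.B := h.sup_eq ▸ hp.syl.le
  have hN : h.S ≤ Ns h.A ⊓ Ns h.B := le_inf (h.S_le_Ns _ _) (h.S_le_Ns _ _)
  obtain ⟨K, hK, ho, hm'⟩ := exists_odd_compl_in (hS.mono hN le_top)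
    (h.sup_eq ▸ Ns_inf_le_Ns_sup)
  obtain ⟨s, hs, k, hk, rfl⟩ := hm' m hm
  refine mul_mem (hSL hs) ?_
  have sc : ∀ x ∈ Ns h.A ⊓ Ns h.B, Odd (orderOf x) → ∃ c : F, ∀ s, x * u 0 0 s * x⁻¹ = u 0 0 (c * s) :=
    fun x hx ho => exists_scalar hF (x := fun t => u 0 0 t) (fun s t => by simp [h.mul])
      (fun s t e => (h.inj e).2.2) ho fun s => h.mem_Z.1 (mem_normalizer_conj
        (h.inf_eq ▸ Ns_inf_le_Ns_inf hx) (h.u_mem_Z.2 ⟨rfl, rfl⟩))
  obtain ⟨t, ht, hto, h1, -⟩ := hp.exists_fpf (by omega)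
  obtain ⟨c, hc⟩ := sc k (hK hk) (odd_orderOf_of_mem hk ho)
  obtain ⟨d, hd⟩ := sc t ⟨LL_le hp.ab ht.1, ht.2⟩ hto
  have nz : ∀ {x : G} {c : F}, (∀ s, x * u 0 0 s * x⁻¹ = u 0 0 (c * s)) → c ≠ 0 := by
    rintro x _ hx rfl
    have := hx 1
    rw [zero_mul, h.one, conj_eq_one_iff, h.eq_one_iff] at this
    exact one_ne_zero this.2.2
  have d1 : d ≠ 1 := fun e => by
    have := h1 (u 0 0 1) (h.u_mem_A.2 rfl) (by
      rw [commutatorElement_def, hd, e, mul_one, mul_inv_cancel]; exact one_mem _)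
    rw [hs_zz h hp, mem_bot, h.eq_one_iff] at this
    exact one_ne_zero this.2.2
  have key : ∀ x ∈ LL h.A h.B, (∀ s, x * u 0 0 s * x⁻¹ = u 0 0 (c * s)) → k ∈ LL h.A h.B :=
    fun x hx e => by
      have : x⁻¹ * k ∈ Cs h.Z := mem_Cs.2 fun z hz => by
        obtain ⟨s, rfl⟩ := h.mem_Z.1 hz
        calc u 0 0 s * (x⁻¹ * k) = x⁻¹ * (x * u 0 0 s * x⁻¹) * k := by group
          _ = x⁻¹ * k * u 0 0 s := by rw [e, ← hc]; group
      simpa using mul_mem hx (hSL (hC this))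
  have h3 : ∀ x : F, x ≠ 0 → x ^ 3 = 1 := fun x hx => by
    have := FiniteField.pow_card_sub_one_eq_one _ hx
    rwa [hF] at this
  have h4 : (c - 1) * ((c - d) * (c - d * d)) = 0 := by
    have e1 := h3 c (nz hc)
    have e2 := h3 d (nz hd)
    have e3 : d * d + d + 1 = 0 := mul_left_cancel₀ (sub_ne_zero.2 d1) (by linear_combination e2)
    linear_combination e1 - c ^ 2 * e3 + c * d * e3 - e2
  rcases mul_eq_zero.1 h4 with e | e
  · exact key 1 (one_mem _) fun s => by simp [sub_eq_zero.1 e]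
  rcases mul_eq_zero.1 e with e | e
  · exact key t ht.1 fun s => by rw [hd, sub_eq_zero.1 e]
  · exact key (t * t) (mul_mem ht.1 ht.1) fun s => by
      rw [sub_eq_zero.1 e, mul_assoc d, ← hd, ← hd]; group

end Cfsg.Lib.L34
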