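import Cfsg.Agent.SylT.EmbCrd
import Cfsg.Agent.AB.Char2b
import Cfsg.Agent.Gold.PrComp
import Cfsg.Agent.S0051

/-!
# Groups with Sylow 2-subgroups of type `L₃(4)` and a normal elementary abelian group of order 16
-/

set_option autoImplicit false

namespace Cfsg.Lib.L34

open Subgroup Cfsg.Lib.Trans Cfsg.Lib.Gold Cfsg.Lib.Gomi Matrix
open scoped commutatorElement

universe u

variable {G : Type u} [Group G] [Finite G] {S H A B T F₁ F₂ V : Subgroup G}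

theorem exists_odd_compl_in (hS : IsSylowIn 2 S H) (hn : H ≤ Ns S) :
    ∃ K ≤ H, Odd (Nat.card K) ∧ ∀ g ∈ H, ∃ s ∈ S, ∃ k ∈ K, s * k = g := by
  have := normal_subgroupOf_of_le_normalizer hn
  have ho : Odd (S.subgroupOf H).index := Nat.not_even_iff_odd.1 fun e => hS.not_dvd e.two_dvd
  obtain ⟨K, hK⟩ := exists_right_complement'_of_coprime (N := S.subgroupOf H)
    (Solv.coprime_card_of_isPGroup (isPGroup_subgroupOf hS.isPGroup H) (odd_iff_coprime.1 ho))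
  refine ⟨K.map H.subtype, map_subtype_le _, ?_, fun g hg => ?_⟩
  · rwa [card_map_of_injective H.subtype_injective, ← hK.symm.index_eq_card]
  · obtain ⟨⟨a, k⟩, e⟩ := hK.2 ⟨g, hg⟩
    exact ⟨a.1, a.2, k.1, ⟨k, k.2, rfl⟩, congrArg Subtype.val e⟩

theorem exists_mul_Oc (hS : IsSylowIn 2 S H) (hc : H ≤ Cs S) {g : G} (hg : g ∈ H) :
    ∃ s ∈ S, ∃ k ∈ Oc H, s * k = g := by
  obtain ⟨K, hK, ho, h⟩ := exists_odd_compl_in hS (hc.trans Cs_le_Ns)
  obtain ⟨s, hs, k, hk, e⟩ := h g hg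
  refine ⟨s, hs, k, le_Oc_of_le_Ns hK (fun x hx => ?_) ho hk, e⟩
  obtain ⟨s, hs, k, hk, rfl⟩ := h x hx
  exact mul_mem (Cs_le_Ns ((le_Cs_comm.1 (hK.trans hc)) hs)) (le_normalizer hk)

theorem ab_syl_Cs (h : AB A B) (hS : IsSylowIn 2 (A ⊔ B) ⊤) : IsSylowIn 2 A (Cs A) := by
  have := (hS.mono h.S_le_Ns le_top).inf_normal_of_le (le_Ns_Cs le_rfl) Cs_le_Ns
  rwa [h.inf_Cs] at this

theorem ab_Cs_le (h : AB A B) (hS : IsSylowIn 2 (A ⊔ B) ⊤) (hO : Oc (Cs A) = ⊥) : Cs A ≤ A :=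
  fun g hg => by
    obtain ⟨s, hs, k, hk, rfl⟩ := exists_mul_Oc (ab_syl_Cs h hS) le_rfl hg
    rwa [mem_bot.1 (hO.le hk), mul_one]

variable {F : Type*} [Field F] [Fintype F]

omit [Finite G] in
theorem exists_scalar (hF : Fintype.card F = 4) {x : F → G} (ha : ∀ s t, x (s + t) = x s * x t)
    (hi : Function.Injective x) {k : G} (ho : Odd (orderOf k))
    (hk : ∀ s, ∃ t, x t = k * x s * k⁻¹) : ∃ c : F, ∀ s, k * x s * k⁻¹ = x (c * s) := by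
  choose f hf using hk
  have hn : ∀ (n : ℕ) s, x (f^[n] s) = k ^ n * x s * (k ^ n)⁻¹ := fun n => by
    induction n with
    | zero => simp
    | succ n ih => intro s; rw [Function.iterate_succ_apply', hf, ih, pow_succ']; group
  obtain ⟨c, hc⟩ := exists_mul_of_odd hF f (fun a b => hi (by rw [ha, hf, hf, hf, ha, conj_mul']))
    ho fun a => hi (by rw [hn, pow_orderOf_eq_one]; simp)
  exact ⟨c, fun s => by rw [← hf, hc]⟩

variable {u : F → F → F → G}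

omit [Fintype F] in
theorem hs_emb [CharP F 2] (h : Hs u) (hS : IsSylowIn 2 h.S ⊤) (hO : oddCore G = ⊥) [h.A.Normal]
    {χ : (Fin 2 → F) → G} (hc : Crd h.A χ)
    (hl : ∀ g : G, ∃ M : Matrix (Fin 2) (Fin 2) F, ∀ v, g * χ v * g⁻¹ = χ (M *ᵥ v)) :
    EmbPGL F G := by
  obtain ⟨U, hU, h1, h2⟩ := h.exists_compl
  have := isMulCommutative_of_sq h.ab.sqA
  obtain ⟨K, hK⟩ := Agent.S0051.result h.A h.S (h.sup_eq ▸ le_sup_left)
    (Solv.coprime_card_of_isPGroup (isPGroup_of_sq h.ab.sqA) (odd_iff_coprime.1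
      (Nat.not_even_iff_odd.1 fun e => hS.not_dvd (relIndex_top_right h.S ▸ e.two_dvd)))) U hU h1 h2
  exact hc.embPGL (ab_Cs_le h.ab (h.sup_eq ▸ hS) (Oc_eq_bot_of_normal hO _)) hK hl

theorem hs_emb_normal (hF : Fintype.card F = 4) (h : Hs u) (hS : IsSylowIn 2 h.S ⊤)
    (hO : oddCore G = ⊥) [h.S.Normal] : EmbPGL F G := by
  have := charP_four hF
  have hn : ⊤ ≤ Ns h.S := (normalizer_eq_top _).ge
  have nA : ⊤ ≤ Ns h.A := le_trans (le_inf le_rfl (h.sup_eq ▸ hn)) (h.ab.Ns_le (h.sup_eq ▸ hS))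
  have nB : ⊤ ≤ Ns h.B := le_trans (le_inf le_rfl (sup_comm h.A h.B ▸ h.sup_eq ▸ hn))
    (h.ab.symm.Ns_le (AB.symm_syl (h.sup_eq ▸ hS)))
  have nZ : ⊤ ≤ Ns h.Z := h.inf_eq ▸ le_Ns_inf nA nB
  have : h.A.Normal := normalizer_eq_top_iff.1 (top_le_iff.1 nA)
  have := isMulCommutative_of_sq h.ab.sqA
  obtain ⟨K, -, ho, hK⟩ := exists_odd_compl_in hS hn
  obtain ⟨W₀, h1, h2⟩ := h.exists_compl'
  obtain ⟨W, -, hW, h3, h4⟩ := Solv.Coprime.exists_invariant_complement (A := K) (le_top.trans nA)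
    (le_top.trans nZ) (coprime_of_odd (isPGroup_of_sq fun z hz =>
      h.ab.sqA z ((h.inf_eq ▸ inf_le_left : h.Z ≤ h.A) hz)) ho).symm h1 h2
  have hWA : W ≤ h.A := h4 ▸ le_sup_right
  have ex : ∀ a, ∃ c, u a 0 c ∈ W := fun a => by
    have := normalizer_eq_top_iff.1 (top_le_iff.1 nZ)
    obtain ⟨z, hz, w, hw, e⟩ := mem_sup_of_normal_left.1 (h4.ge (h.u_mem_A.2 rfl : u a 0 0 ∈ _))
    obtain ⟨c, rfl⟩ := h.mem_Z.1 hz
    rw [← eq_inv_mul_iff_mul_eq, h.inv, h.mul, neg_zero, zero_add, zero_add] at e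
    exact ⟨_, e ▸ hw⟩
  choose σ hσ using ex
  have un : ∀ a c, u a 0 c ∈ W → c = σ a := fun a c hc => by
    have e : u a 0 c * (u a 0 (σ a))⁻¹ = u 0 0 (c - σ a) := by
      rw [h.inv, h.mul]; congr 1 <;> ring
    have : u 0 0 (c - σ a) ∈ h.Z ⊓ W :=
      ⟨h.u_mem_Z.2 ⟨rfl, rfl⟩, e ▸ W.mul_mem hc (W.inv_mem (hσ a))⟩
    rw [h3, mem_bot, h.eq_one_iff] at this
    exact sub_eq_zero.1 this.2.2
  have σa : ∀ a b, σ (a + b) = σ a + σ b := fun a b => (un _ _ (by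
    simpa [h.mul] using W.mul_mem (hσ a) (hσ b))).symm
  refine hs_emb h hS hO (χ := fun v => u (v 1) 0 (v 0 + σ (v 1)))
    ⟨fun v w => ?_, fun v w e => ?_, fun g => ?_⟩ fun g => ?_
  · rw [h.mul, Pi.add_apply, Pi.add_apply, σa]
    congr 1 <;> ring
  · obtain ⟨e1, -, e2⟩ := h.inj e
    rw [e1] at e2
    exact vec_ext (add_right_cancel e2) e1
  · rw [h.mem_A]
    exact ⟨fun ⟨a, c, e⟩ => ⟨![c - σ a, a], by simpa using e⟩, fun ⟨v, e⟩ => ⟨_, _, e⟩⟩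
  · obtain ⟨s, hs, k, hk, rfl⟩ := hK g (mem_top g)
    obtain ⟨a, b, c, rfl⟩ := h.mem_S.1 hs
    have hko := odd_orderOf_of_mem hk ho
    obtain ⟨l, hl⟩ := exists_scalar hF (x := fun t => u 0 0 t) (fun s t => by simp [h.mul])
      (fun s t e => (h.inj e).2.2) hko fun s =>
        h.mem_Z.1 (mem_normalizer_conj (nZ (mem_top k)) (h.u_mem_Z.2 ⟨rfl, rfl⟩))
    obtain ⟨m, hm⟩ := exists_scalar hF (x := fun t => u t 0 (σ t)) (fun s t => by simp [h.mul, σa])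
      (fun s t e => (h.inj e).1) hko fun s => by
        have h5 := mem_normalizer_conj (hW hk) (hσ s)
        obtain ⟨t, c, e⟩ := h.mem_A.1 (hWA h5)
        exact ⟨t, by rw [← un t c (e ▸ h5), e]⟩
    refine ⟨!![l, -b * m; 0, m], fun v => ?_⟩
    have e : u (v 1) 0 (v 0 + σ (v 1)) = u 0 0 (v 0) * u (v 1) 0 (σ (v 1)) := by simp [h.mul]
    rw [e, show ∀ x y z w : G, x * y * (z * w) * (x * y)⁻¹ =
      x * (y * z * y⁻¹ * (y * w * y⁻¹)) * x⁻¹ from fun _ _ _ _ => by group, hl, hm, h.mul, h.conj,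
      mulVec_two, mulVec_two]
    simp only [of_apply, cons_val', cons_val_zero, cons_val_one, cons_val_fin_one, zero_mul,
      zero_add]
    congr 1
    ring

theorem hs_zz (h : Hs u) (hp : HasPar F h.A h.B) : ZZ h.A h.B = ⊥ := by
  have e := card_mul_relIndex (ZZ_le hp.ab)
  rw [hp.relIndex_Z, h.inf_eq, h.card_Z, Nat.card_eq_fintype_card (α := F)] at e
  exact card_eq_one.1 (Nat.eq_of_mul_eq_mul_right Fintype.card_pos (e.trans (one_mul _).symm))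

theorem hs_hasPar (hF : Fintype.card F = 4) (h : Hs u) (hS : IsSylowIn 2 h.S ⊤)
    (hm : Mov h.A h.B) : HasPar F h.A h.B := by
  have := charP_four hF
  refine h.ab.hasPar ((h.sup_eq ▸ hS).mono h.ab.S_le_Ns le_top) hm ?_ ?_ F ?_
  · rw [h.relIndex_A, h.relIndex_B]
  · rw [h.relIndex_B, Nat.card_eq_fintype_card, hF]; norm_num
  · rw [h.relIndex_B, Nat.card_eq_fintype_card]

theorem hs_emb_par (hF : Fintype.card F = 4) (h : Hs u) (hS : IsSylowIn 2 h.S ⊤)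
    (hO : oddCore G = ⊥) [h.A.Normal] (hm : Mov h.A h.B) : EmbPGL F G := by
  have := charP_four hF
  have hp := hs_hasPar hF h hS hm
  have hz := hs_zz h hp
  obtain ⟨θ, ψ, P⟩ := hp
  have N := P.nat
  choose χ h1 h2 using N.surj
  have hi : ∀ {a b}, a ∈ h.A → b ∈ h.A → ψ a = ψ b → a = b := fun ha hb e => by
    have := (N.psi_eq_iff ha hb).1 e
    rwa [hz, mem_bot, inv_mul_eq_one] at this
  have hc : Crd h.A χ := ⟨fun v w => hi (h1 _) (mul_mem (h1 _) (h1 _)) (by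
      rw [N.add _ (h1 _) _ (h1 _), h2, h2, h2]), fun v w e => by rw [← h2 v, e, h2],
    fun g => ⟨fun hg => ⟨_, hi (h1 _) hg (h2 _)⟩, fun ⟨v, e⟩ => e ▸ h1 v⟩⟩
  have ha : ∀ l ∈ LL h.A h.B, ∀ v, l * χ v * l⁻¹ = χ ((θ l : Matrix (Fin 2) (Fin 2) F) *ᵥ v) :=
    fun l hl v => hi (N.conj_mem hl (h1 _)) (h1 _) (by rw [N.act l hl _ (h1 _), h2, h2])
  have : (LL h.A h.B).Normal :=
    normalizer_eq_top_iff.1 (top_le_iff.1 ((normalizer_eq_top _).ge.trans Ns_le_Ns_LL))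
  refine hs_emb h hS hO hc (hc.linear hF (L := LL h.A h.B) ?_ (fun T => ?_) fun l hl => ⟨_, ha l hl⟩)
  · rw [← relIndex_top_right]
    exact hS.not_dvd_relIndex_of_le (h.sup_eq ▸ P.syl.le)
  · obtain ⟨l, hl, rfl⟩ := N.onto T
    exact ⟨l, hl, ha l hl⟩

theorem hs_normal (hF : Fintype.card F = 4) (h : Hs u) (hS : IsSylowIn 2 h.S ⊤)
    (hO : oddCore G = ⊥) [h.A.Normal] (hm : ¬ Mov h.A h.B) : h.S.Normal := by
  have := charP_four hF
  have nA : ⊤ ≤ Ns h.A := (normalizer_eq_top _).ge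
  have nZ : ⊤ ≤ Ns (h.A ⊓ h.B) := nA.trans (not_not.1 hm)
  have hC := ab_Cs_le h.ab (h.sup_eq ▸ hS) (Oc_eq_bot_of_normal hO _)
  have e : Stb h.A (h.A ⊓ h.B) = h.S := hS.eq_of_le (fun g => ⟨2, Subtype.ext (by
    have := h.ab.sqA _ (hC (sq_mem_Cs_of_Stb (fun w hw => h.ab.sqA w (inf_le_left (b := h.B) hw)) g.2))
    rw [show 2 ^ 2 = 2 + 2 from rfl, pow_add, pow_two]
    exact this)⟩) (h.sup_eq ▸ sup_le (h.ab.A_le_Stb inf_le_left) h.ab.B_le_Stb) le_top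
  exact e ▸ normalizer_eq_top_iff.1 (top_le_iff.1 fun g hg => mem_Ns_Stb (nA hg) (nZ hg))

theorem TT.emb_normal (hF : Fintype.card F = 4) (h : TT T F₁ F₂ V) (hs : IsSylowIn 2 T ⊤)
    (hO : oddCore G = ⊥) (hn : T.Normal) : ∃ f : G →* PGL3 F, Function.Injective f := by
  obtain ⟨u, k, rfl, rfl, rfl, rfl⟩ := h.exists_hs hF
  exact hs_emb_normal hF k hs hO

theorem TT.emb_par (hF : Fintype.card F = 4) (h : TT T F₁ F₂ V) (hs : IsSylowIn 2 T ⊤)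
    (hO : oddCore G = ⊥) (hn : F₁.Normal) (hT : ¬ T.Normal) :
    ∃ f : G →* PGL3 F, Function.Injective f := by
  obtain ⟨u, k, rfl, rfl, rfl, rfl⟩ := h.exists_hs hF
  exact hs_emb_par hF k hs hO (not_not.1 fun hm => hT (hs_normal hF k hs hO hm))

end Cfsg.Lib.L34
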