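import Cfsg.Agent.SylT.Defs
import Cfsg.Agent.AB.L34Syl
import Cfsg.Agent.AB.Local

/-!
# Coordinates over the field with four elements on a group of type `TT`
-/

set_option autoImplicit false

namespace Cfsg.Lib.L34

open Subgroup Cfsg.Lib.Trans Cfsg.Lib.Gold Cfsg.Lib.Gomi
open scoped commutatorElement

universe u

variable {G : Type u} [Group G] {T F₁ F₂ V : Subgroup G} {F : Type*} [Field F] [Fintype F]

theorem charP_four (hF : Fintype.card F = 4) : CharP F 2 :=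
  Known.charP_of_card_eq_pow (p := 2) (f := 2) hF

theorem exists_omega (hF : Fintype.card F = 4) : ∃ ω : F, ω ≠ 0 ∧ ω ≠ 1 ∧ ω * ω = ω + 1 ∧
    ∀ x : F, x = 0 ∨ x = 1 ∨ x = ω ∨ x = ω + 1 := by
  classical
  have := charP_four hF
  obtain ⟨ω, h0, h1⟩ := exists_ne_zero_ne_one (F := F) (by omega)
  have h2 : (2 : F) = 0 := CharTwo.two_eq_zero
  have h3 : ω + 1 ≠ 0 := fun e => h1 (by linear_combination e - h2)
  have h4 : ω + 1 ≠ 1 := fun e => h0 (by linear_combination e)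
  have h5 : ∀ x : F, x = 0 ∨ x = 1 ∨ x = ω ∨ x = ω + 1 := fun x => by
    have : ({0, 1, ω, ω + 1} : Finset F) = Finset.univ := Finset.eq_univ_of_card _ (by
      rw [hF, Finset.card_insert_of_notMem (by simp [h0.symm, h3.symm]),
        Finset.card_insert_of_notMem (by simp [h1.symm, h0]),
        Finset.card_insert_of_notMem (by simp), Finset.card_singleton])
    simpa using this.ge (Finset.mem_univ x)
  refine ⟨ω, h0, h1, ?_, h5⟩
  rcases h5 (ω * ω) with e | e | e | e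
  · exact (mul_ne_zero h0 h0 e).elim
  · exact (mul_ne_zero h3 h3 (by linear_combination e + (ω + 1) * h2)).elim
  · exact (mul_ne_zero h0 h3 (by linear_combination e + ω * h2)).elim
  · exact e

/-- An additive map of odd order on the field with four elements is a multiplication. -/
theorem exists_mul_of_odd (hF : Fintype.card F = 4) (f : F → F)
    (hf : ∀ a b, f (a + b) = f a + f b) {n : ℕ} (hn : Odd n) (h : ∀ a, f^[n] a = a) :
    ∃ c : F, ∀ a, f a = c * a := by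
  have := charP_four hF
  have h2 : (2 : F) = 0 := CharTwo.two_eq_zero
  obtain ⟨ω, h0, h1, hω, h5⟩ := exists_omega hF
  obtain ⟨k, rfl⟩ := hn
  have h' : ∀ a, f^[2 * k] (f a) = a := h
  have f0 : f 0 = 0 := by simpa using hf 0 0
  have hi : Function.Injective f := fun a b e => by
    rw [← h' a, ← h' b, e]
  have f1 : f 1 ≠ 0 := fun e => one_ne_zero (hi (e.trans f0.symm))
  have ext : ∀ g : F → F, (∀ a b, g (a + b) = g a + g b) → g 1 = f 1 → g ω = f ω →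
      ∀ a, f a = g a := fun g hg e1 e2 a => by
    rcases h5 a with rfl | rfl | rfl | rfl
    · rw [f0, eq_comm]; simpa using hg 0 0
    · exact e1.symm
    · exact e2.symm
    · rw [hf, hg, e1, e2]
  obtain ⟨t, ht⟩ : ∃ t, f ω = f 1 * t := ⟨(f 1)⁻¹ * f ω, by field_simp⟩
  rcases h5 t with rfl | rfl | rfl | rfl
  · exact (h0 (hi (by rw [ht, mul_zero, f0]))).elim
  · exact (h1 (hi (by rw [ht, mul_one]))).elim
  · exact ⟨f 1, ext _ (fun a b => mul_add ..) (mul_one _) ht.symm⟩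
  · have e := ext (fun a => f 1 * a ^ 2) (fun a b => by linear_combination f 1 * a * b * h2)
      (by simp) (by rw [ht, pow_two, hω])
    have e4 : ∀ a : F, a ^ 4 = a := fun a => hF ▸ FiniteField.pow_card a
    have e2 : ∀ a, f (f a) = a := fun a => by
      refine mul_left_cancel₀ f1 ?_
      rw [e (f a), e a]
      linear_combination a ^ 4 * e4 (f 1) + f 1 * e4 a
    have e3 : ∀ (k : ℕ) a, f^[2 * k] a = a := fun k a => by
      rw [Function.iterate_mul]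
      exact Function.iterate_fixed (e2 a) k
    exact ⟨1, fun a => by rw [one_mul, ← e3 k (f a), h']⟩

omit [Fintype F] in
theorem exists_add_hom {ω : F} (h0 : ω ≠ 0) (h1 : ω ≠ 1) (h2 : (2 : F) = 0)
    (h5 : ∀ x : F, x = 0 ∨ x = 1 ∨ x = ω ∨ x = ω + 1) {A : Subgroup G} (hA : ∀ a ∈ A, a * a = 1)
    {g k : G} (hg : g ∈ A) (hk : k ∈ A) : ∃ x : F → G, (∀ s t, x (s + t) = x s * x t) ∧
      (∀ s, x s ∈ A) ∧ x 1 = g ∧ x ω = k := by
  classical
  have h3 : ω + 1 ≠ 0 := fun e => h1 (by linear_combination e - h2)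
  have h4 : ω + 1 ≠ 1 := fun e => h0 (by linear_combination e)
  have h6 : ω + 1 ≠ ω := by simp
  have e1 : (1 : F) + 1 = 0 := by linear_combination h2
  have e2 : ω + ω = 0 := by linear_combination ω * h2
  have e3 : 1 + ω = ω + 1 := add_comm _ _
  have e4 : 1 + (ω + 1) = ω := by linear_combination h2
  have e5 : ω + 1 + 1 = ω := by linear_combination h2
  have e6 : ω + (ω + 1) = 1 := by linear_combination ω * h2
  have e7 : ω + 1 + ω = 1 := by linear_combination ω * h2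
  have e8 : ω + 1 + (ω + 1) = 0 := by linear_combination (ω + 1) * h2
  have g2 := hA g hg
  have k2 := hA k hk
  have gk := comm_of_sq hA g hg k hk
  have g3 : ∀ x, g * (g * x) = x := fun x => by rw [← mul_assoc, g2, one_mul]
  have gk' : ∀ x, k * (g * x) = g * (k * x) := fun x => by rw [← mul_assoc, ← gk, mul_assoc]
  obtain ⟨x, x0, x1, xω, xω'⟩ : ∃ x : F → G, x 0 = 1 ∧ x 1 = g ∧ x ω = k ∧ x (ω + 1) = g * k :=
    ⟨fun t => if t = 0 then 1 else if t = 1 then g else if t = ω then k else g * k, by simp,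
      by simp, by simp [h0, h1], by simp [h3, h4]⟩
  refine ⟨x, fun s t => ?_, fun s => ?_, x1, xω⟩
  · rcases h5 s with rfl | rfl | rfl | rfl <;> rcases h5 t with rfl | rfl | rfl | rfl <;>
      simp only [add_zero, zero_add, e1, e2, e3, e4, e5, e6, e7, e8, x0, x1, xω, xω', mul_one,
        one_mul, mul_assoc, g2, k2, g3, gk', ← gk]
  · rcases h5 s with rfl | rfl | rfl | rfl
    · exact x0 ▸ one_mem _
    · exact x1 ▸ hg
    · exact xω ▸ hk
    · exact xω' ▸ mul_mem hg hk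

variable [Finite G]

theorem hs_tt (hF : Fintype.card F = 4) {u : F → F → F → G} (h : Hs u) : TT h.S h.A h.B h.Z := by
  have := charP_four hF
  have hB : Nat.card h.B = Nat.card F ^ 2 := by
    have := h.symm.card_A
    rwa [Hs.A, h.symm_sub] at this
  refine ⟨h.ab.sqA, h.ab.sqB, by rw [h.card_A, Nat.card_eq_fintype_card, hF]; rfl,
    by rw [hB, Nat.card_eq_fintype_card, hF]; rfl, by rw [h.card_Z, Nat.card_eq_fintype_card, hF],
    h.inf_eq, h.sup_eq, fun x hx y hy => h.inf_eq ▸ h.ab.comm_mem hx hy, fun x hx y hy e => ?_⟩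
  rw [← h.inf_eq]
  exact (h.ab.mem_or_mem hx hy e).imp (⟨hx, ·⟩) (⟨·, hy⟩)

theorem TT.exists_hs (hF : Fintype.card F = 4) (h : TT T F₁ F₂ V) :
    ∃ (u : F → F → F → G) (k : Hs u), k.S = T ∧ k.A = F₁ ∧ k.B = F₂ ∧ k.Z = V := by
  have := charP_four hF
  have h2 : (2 : F) = 0 := CharTwo.two_eq_zero
  obtain ⟨ω, h0, h1, hω, h5⟩ := exists_omega hF
  have V1 : V ≤ F₁ := h.inf ▸ inf_le_left
  have V2 : V ≤ F₂ := h.inf ▸ inf_le_right
  have sV : ∀ v ∈ V, v * v = 1 := fun v hv => h.sq₁ v (V1 hv)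
  have c1 : ∀ {x v}, x ∈ F₁ → v ∈ V → x * v = v * x := fun hx hv => comm_of_sq h.sq₁ _ hx _ (V1 hv)
  have c2 : ∀ {x v}, x ∈ F₂ → v ∈ V → x * v = v * x := fun hx hv => comm_of_sq h.sq₂ _ hx _ (V2 hv)
  have cm : ∀ {x y}, x ∈ F₁ → y ∈ F₂ → ⁅x, y⁆ ∈ V := fun hx hy => h.comm _ hx _ hy
  have ml : ∀ {x x' y}, x ∈ F₁ → x' ∈ F₁ → y ∈ F₂ → ⁅x * x', y⁆ = ⁅x, y⁆ * ⁅x', y⁆ :=
    fun hx hx' hy => by
      rw [comm_mul_left', c1 hx (cm hx' hy), mul_inv_cancel_right, c1 (V1 (cm hx' hy)) (cm hx hy)]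
  have mr : ∀ {x y y'}, x ∈ F₁ → y ∈ F₂ → y' ∈ F₂ → ⁅x, y * y'⁆ = ⁅x, y⁆ * ⁅x, y'⁆ :=
    fun hx hy hy' => by rw [comm_mul_right', c2 hy (cm hx hy'), mul_inv_cancel_right]
  have nd : ∀ {x y}, x ∈ F₁ → y ∈ F₂ → ⁅x, y⁆ = 1 → x ∈ V ∨ y ∈ V := fun hx hy e =>
    h.nondeg _ hx _ hy (commutatorElement_eq_one_iff_mul_comm.1 e)
  have v1 : ∀ {x y}, x ∈ F₁ → y ∈ V → ⁅x, y⁆ = 1 := fun hx hy =>
    commutatorElement_eq_one_iff_mul_comm.2 (c1 hx hy)
  have v2 : ∀ {x y}, x ∈ V → y ∈ F₂ → ⁅x, y⁆ = 1 := fun hx hy =>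
    commutatorElement_eq_one_iff_mul_comm.2 (c2 hy hx).symm
  have ex : ∀ {A : Subgroup G} {a}, Nat.card A = 16 → V ≤ A → a * a = 1 → a ∈ A → a ∈ Ns V →
      ∃ b ∈ A, b ∉ V ∧ a * b ∉ V := fun {A a} hA hV ha haA haN => by
    have hlt : Nat.card (V ⊔ zpowers a : Subgroup G) < Nat.card A := by
      have e1 := Solv.card_sup_dvd_of_le_normalizer (N := V) (H := zpowers a) (zpowers_le.2 haN)
      have e2 : Nat.card (zpowers a) ∣ 2 := by
        rw [Nat.card_zpowers, orderOf_dvd_iff_pow_eq_one, pow_two, ha]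
      rw [h.cardV] at e1
      have := Nat.le_of_dvd (by norm_num) (e1.trans (Nat.mul_dvd_mul_left 4 e2))
      omega
    obtain ⟨b, hb, hb'⟩ := SetLike.not_le_iff_exists.1 fun hle : A ≤ V ⊔ zpowers a =>
      absurd (Trans.card_le_of_le hle) (by omega)
    exact ⟨b, hb, fun e => hb' (mem_sup_left e), fun e => hb' (by
      simpa [← mul_assoc] using mul_mem (inv_mem (mem_sup_right (mem_zpowers a) : a ∈ V ⊔ _))
        (mem_sup_left e))⟩
  have n1 : F₁ ≤ Ns V := (le_Cs_of_sq h.sq₁ V1).trans Cs_le_Ns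
  have n2 : F₂ ≤ Ns V := (le_Cs_of_sq h.sq₂ V2).trans Cs_le_Ns
  obtain ⟨a, ha, haV, -⟩ := ex h.card₁ V1 (mul_one 1) (one_mem _) (one_mem _)
  obtain ⟨c, hc, hcV, -⟩ := ex h.card₂ V2 (mul_one 1) (one_mem _) (one_mem _)
  obtain ⟨d, hd, hdV, hcd⟩ := ex h.card₂ V2 (h.sq₂ c hc) hc (n2 hc)
  obtain ⟨b₀, hb₀, hbV₀, hab₀⟩ := ex h.card₁ V1 (h.sq₁ a ha) ha (n1 ha)
  have ne1 : ∀ {x y}, x ∈ F₁ → x ∉ V → y ∈ F₂ → y ∉ V → ⁅x, y⁆ ≠ 1 := fun hx hx' hy hy' e =>
    (nd hx hy e).elim hx' hy'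
  have nel : ∀ {x x' y}, x ∈ F₁ → x' ∈ F₁ → x * x' ∉ V → y ∈ F₂ → y ∉ V → ⁅x, y⁆ ≠ ⁅x', y⁆ :=
    fun hx hx' hn hy hy' e => ne1 (mul_mem hx hx') hn hy hy' (by
      rw [ml hx hx' hy, e, sV _ (cm hx' hy)])
  have ner : ∀ {x y y'}, x ∈ F₁ → x ∉ V → y ∈ F₂ → y' ∈ F₂ → y * y' ∉ V → ⁅x, y⁆ ≠ ⁅x, y'⁆ :=
    fun hx hx' hy hy' hn e => ne1 hx hx' (mul_mem hy hy') hn (by
      rw [mr hx hy hy', e, sV _ (cm hx hy')])
  have hu := cm ha hc
  have hv := cm ha hd
  obtain ⟨z, zadd, zmem, z1, zω⟩ := exists_add_hom h0 h1 h2 h5 sV hu hv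
  have z0 : z 0 = 1 := mul_eq_left.1 (by rw [← zadd 0 0, add_zero])
  have zinj : ∀ t, z t = 1 → t = 0 := fun t e => by
    rcases h5 t with rfl | rfl | rfl | rfl
    · rfl
    · exact (ne1 ha haV hc hcV (z1 ▸ e)).elim
    · exact (ne1 ha haV hd hdV (zω ▸ e)).elim
    · rw [add_comm, zadd, z1, zω, ← mr ha hc hd] at e
      exact (ne1 ha haV (mul_mem hc hd) hcd e).elim
  have zsurj : ∀ v ∈ V, ∃ t, z t = v := fun v hv => by
    have hi : Function.Injective fun t => (⟨z t, zmem t⟩ : V) := fun s t e => by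
      have := zinj (s + t) (by rw [zadd, show z s = z t from congrArg Subtype.val e, sV _ (zmem t)])
      linear_combination this - t * h2
    obtain ⟨t, ht⟩ := ((Nat.bijective_iff_injective_and_card _).2
      ⟨hi, by rw [h.cardV, Nat.card_eq_fintype_card, hF]⟩).2 ⟨v, hv⟩
    exact ⟨t, congrArg Subtype.val ht⟩
  obtain ⟨b, hb, hbV, hab, hbc⟩ : ∃ b ∈ F₁, b ∉ V ∧ a * b ∉ V ∧ ⁅b, c⁆ = z ω := by
    obtain ⟨t, ht⟩ := zsurj _ (cm hb₀ hc)
    rcases h5 t with rfl | rfl | rfl | rfl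
    · exact (ne1 hb₀ hbV₀ hc hcV (ht ▸ z0)).elim
    · exact (nel ha hb₀ hab₀ hc hcV (z1 ▸ ht)).elim
    · exact ⟨b₀, hb₀, hbV₀, hab₀, ht.symm⟩
    · refine ⟨a * b₀, mul_mem ha hb₀, hab₀, by rwa [← mul_assoc, h.sq₁ a ha, one_mul], ?_⟩
      rw [ml ha hb₀ hc, ← ht, ← z1, ← zadd]
      congr 1
      linear_combination h2
  have hbd : ⁅b, d⁆ = z (ω * ω) := by
    obtain ⟨t, ht⟩ := zsurj _ (cm hb hd)
    rcases h5 t with rfl | rfl | rfl | rfl
    · exact (ne1 hb hbV hd hdV (ht ▸ z0)).elim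
    · refine (ne1 (mul_mem ha hb) hab (mul_mem hc hd) hcd ?_).elim
      rw [ml ha hb (mul_mem hc hd), mr ha hc hd, mr hb hc hd, hbc, ← ht, ← z1, ← zω, ← zadd, ← zadd,
        ← zadd, ← z0]
      congr 1
      linear_combination (1 + ω) * h2
    · exact (ner hb hbV hc hd hcd (hbc.trans ht)).elim
    · rw [hω, ht]
  obtain ⟨x, xadd, xmem, x1, xω⟩ := exists_add_hom h0 h1 h2 h5 h.sq₁ ha hb
  obtain ⟨y, yadd, ymem, y1, yω⟩ := exists_add_hom h0 h1 h2 h5 h.sq₂ hc hd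
  have x0 : x 0 = 1 := mul_eq_left.1 (by rw [← xadd 0 0, add_zero])
  have y0 : y 0 = 1 := mul_eq_left.1 (by rw [← yadd 0 0, add_zero])
  have key : ∀ s t, ⁅x s, y t⁆ = z (s * t) := by
    have k1 : ∀ s, ⁅x s, y 1⁆ = z (s * 1) → ⁅x s, y ω⁆ = z (s * ω) → ∀ t, ⁅x s, y t⁆ = z (s * t) :=
      fun s e1 e2 t => by
        rcases h5 t with rfl | rfl | rfl | rfl
        · simp [y0, z0]
        · exact e1
        · exact e2
        · rw [yadd, mr (xmem _) (ymem _) (ymem _), e1, e2, ← zadd, mul_add]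
    have k2 := k1 1 (by rw [x1, y1, mul_one, z1]) (by rw [x1, yω, one_mul, zω])
    have k3 := k1 ω (by rw [xω, y1, mul_one, hbc]) (by rw [xω, yω, hbd])
    intro s t
    rcases h5 s with rfl | rfl | rfl | rfl
    · simp [x0, z0]
    · exact k2 t
    · exact k3 t
    · rw [xadd, ml (xmem _) (xmem _) (ymem _), k2, k3, ← zadd, add_mul]
  have mul : ∀ a b c a' b' c', z c * y b * x a * (z c' * y b' * x a') =
      z (c + c' + a * b') * y (b + b') * x (a + a') := fun a b c a' b' c' => by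
    rw [zadd, zadd, yadd, xadd, ← key]
    have e1 := c1 (xmem a) (zmem c')
    have e2 := c2 (ymem b) (zmem c')
    have e3 := c2 (ymem b) (cm (xmem a) (ymem b'))
    calc z c * y b * x a * (z c' * y b' * x a') = z c * y b * (x a * z c') * y b' * x a' := by group
      _ = z c * (y b * z c') * ⁅x a, y b'⁆ * y b' * x a * x a' := by
        rw [e1, commutatorElement_def]; group
      _ = z c * z c' * (y b * ⁅x a, y b'⁆) * y b' * x a * x a' := by rw [e2]; group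
      _ = _ := by rw [e3]; group
  have ker : ∀ a b c, z c * y b * x a = 1 → a = 0 ∧ b = 0 ∧ c = 0 := fun a b c e => by
    have hx : x a ∈ V := h.inf ▸ ⟨xmem a, by
      rw [eq_inv_of_mul_eq_one_right e]
      exact F₂.inv_mem (F₂.mul_mem (V2 (zmem c)) (ymem b))⟩
    have ha : a = 0 := zinj a (by rw [← mul_one a, ← key, v2 hx (ymem 1)])
    rw [ha, x0, mul_one] at e
    have hb : b = 0 := zinj b (by
      rw [← one_mul b, ← key, v1 (xmem 1) (eq_inv_of_mul_eq_one_right e ▸ inv_mem (zmem c))])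
    rw [hb, y0, mul_one] at e
    exact ⟨ha, hb, zinj c e⟩
  have k : Hs fun a b c => z c * y b * x a := ⟨mul, fun {a b c a' b' c'} e => by
    have e1 := mul a b c a' b' (c' + a' * b')
    rw [e, mul, show c' + (c' + a' * b') + a' * b' = 0 by
      linear_combination (c' + a' * b') * h2, CharTwo.add_self_eq_zero, CharTwo.add_self_eq_zero,
      z0, y0, x0, mul_one, mul_one] at e1
    obtain ⟨e2, e3, e4⟩ := ker _ _ _ e1.symm
    have e5 : a = a' := by linear_combination e2 - a' * h2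
    exact ⟨e5, by linear_combination e3 - b' * h2,
      by linear_combination e4 - b' * e5 - (c' + a' * b') * h2⟩⟩
  have t := hs_tt hF k
  have eA : k.A = F₁ := eq_of_le_of_card_ge (fun g hg => by
    obtain ⟨a, c, rfl⟩ := k.mem_A.1 hg
    exact mul_mem (mul_mem (V1 (zmem _)) (y0 ▸ one_mem _)) (xmem _)) (by rw [t.card₁, h.card₁])
  have eB : k.B = F₂ := eq_of_le_of_card_ge (fun g hg => by
    obtain ⟨a, c, rfl⟩ := k.mem_B.1 hg
    exact mul_mem (mul_mem (V2 (zmem _)) (ymem _)) (x0 ▸ one_mem _)) (by rw [t.card₂, h.card₂])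
  exact ⟨_, k, by rw [← k.sup_eq, eA, eB, h.sup], eA, eB, by rw [← k.inf_eq, eA, eB, h.inf]⟩

theorem exists_tt_psl3 (hF : Fintype.card F = 4)
    (P : Sylow 2 (Matrix.ProjectiveSpecialLinearGroup (Fin 3) F)) :
    ∃ F₁ F₂ V, TT (P : Subgroup (Matrix.ProjectiveSpecialLinearGroup (Fin 3) F)) F₁ F₂ V := by
  have := charP_four hF
  obtain ⟨u, h, e⟩ := exists_hs P (MulEquiv.refl _)
  exact ⟨_, _, _, e ▸ hs_tt hF h⟩

end Cfsg.Lib.L34
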